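import Groth.Agent.ThetaS.K881.Filt

/-!
# The filtration attached to a sequence of monomorphisms which is zero at the start and eventually constant
-/

set_option autoImplicit false
set_option backward.isDefEq.respectTransparency false
set_option backward.isDefEq.respectTransparency.types false

universe u

open CategoryTheory CategoryTheory.Limits AlgebraicGeometry Opposite
open Groth.Agent.LoccohB.HHmap Groth.Agent.CohqA.PullbackUniv

namespace K320.SeqFilt

open K881.Rees K881.Filt

variable {Z Y : Scheme.{u}} (D : Sys Z)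

/-- The sequence as a functor. -/
noncomputable def sq : ℕ ⥤ Z.Modules := Functor.ofSequence D.ι

theorem sq_succ (n : ℕ) : (sq D).map (homOfLE (Nat.le_add_right n 1)) = D.ι n :=
  Functor.ofSequence_map_homOfLE_succ _ _

theorem isIso_sq {m : ℕ} (hi : ∀ n, m ≤ n → IsIso (D.ι n)) (k : ℕ) :
    ∀ n (h : m ≤ n) (_ : n = m + k), IsIso ((sq D).map (homOfLE h)) := by
  induction k with
  | zero =>
    intro n h hn
    have : n = m := by omega
    subst this
    have e : homOfLE h = 𝟙 _ := Subsingleton.elim _ _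
    rw [e, CategoryTheory.Functor.map_id]
    infer_instance
  | succ k ih =>
    intro n h hn
    obtain rfl : n = m + k + 1 := by omega
    have e : homOfLE h = homOfLE (Nat.le_add_right m k) ≫ homOfLE (Nat.le_add_right (m + k) 1) := Subsingleton.elim _ _
    rw [e, Functor.map_comp, sq_succ]
    have := ih (m + k) (Nat.le_add_right m k) rfl
    have := hi (m + k) (Nat.le_add_right m k)
    infer_instance

theorem mono_sq (hm : ∀ n, Mono (D.ι n)) (a k : ℕ) :
    ∀ n (h : a ≤ n) (_ : n = a + k), Mono ((sq D).map (homOfLE h)) := by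
  induction k with
  | zero =>
    intro n h hn
    have : n = a := by omega
    subst this
    have e : homOfLE h = 𝟙 _ := Subsingleton.elim _ _
    rw [e, CategoryTheory.Functor.map_id]
    infer_instance
  | succ k ih =>
    intro n h hn
    obtain rfl : n = a + k + 1 := by omega
    have e : homOfLE h = homOfLE (Nat.le_add_right a k) ≫ homOfLE (Nat.le_add_right (a + k) 1) := Subsingleton.elim _ _
    rw [e, Functor.map_comp, sq_succ]
    have := ih (a + k) (Nat.le_add_right a k) rfl
    have := hm (a + k)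
    infer_instance

/-- Compatible monomorphisms to the limit term. -/
theorem exists_t (hm : ∀ n, Mono (D.ι n)) {m : ℕ} (hi : ∀ n, m ≤ n → IsIso (D.ι n)) :
    ∃ t : ∀ n, D.N n ⟶ D.N m, (∀ n, D.ι n ≫ t (n + 1) = t n) ∧ (∀ n, Mono (t n)) ∧ ∀ n, m ≤ n → IsIso (t n) := by
  have hI : ∀ n (h : m ≤ n), IsIso ((sq D).map (homOfLE h)) := fun n h =>
    isIso_sq D hi (n - m) n h (by omega)
  have hM : ∀ a n (h : a ≤ n), Mono ((sq D).map (homOfLE h)) := fun a n h =>
    mono_sq D hm a (n - a) n h (by omega)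
  let t : ∀ n, D.N n ⟶ D.N m := fun n =>
    haveI := hI (max n m) (le_max_right n m)
    (sq D).map (homOfLE (le_max_left n m)) ≫ inv ((sq D).map (homOfLE (le_max_right n m)))
  refine ⟨t, fun n => ?_, fun n => ?_, fun n hn => ?_⟩
  · have := hI (max n m) (le_max_right n m)
    have := hI (max (n + 1) m) (le_max_right (n + 1) m)
    change D.ι n ≫ (sq D).map (homOfLE (le_max_left (n + 1) m)) ≫ inv ((sq D).map (homOfLE (le_max_right (n + 1) m))) =
      (sq D).map (homOfLE (le_max_left n m)) ≫ inv ((sq D).map (homOfLE (le_max_right n m)))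
    rw [← Category.assoc, IsIso.comp_inv_eq, Category.assoc, ← sq_succ, ← Functor.map_comp]
    have h1 : max n m ≤ max (n + 1) m := max_le_max (Nat.le_succ n) le_rfl
    have e1 : (sq D).map (homOfLE (le_max_right (n + 1) m)) =
        (sq D).map (homOfLE (le_max_right n m)) ≫ (sq D).map (homOfLE h1) := by
      rw [← Functor.map_comp]; congr 1
    rw [e1, IsIso.inv_hom_id_assoc, ← Functor.map_comp]
    congr 1
  · have := hI (max n m) (le_max_right n m)
    have := hM n (max n m) (le_max_left n m)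
    change Mono ((sq D).map (homOfLE (le_max_left n m)) ≫ inv ((sq D).map (homOfLE (le_max_right n m))))
    infer_instance
  · have := hI (max n m) (le_max_right n m)
    have h2 : IsIso ((sq D).map (homOfLE (le_max_left n m))) := by
      have key : ∀ (n' : ℕ) (_ : n' = n) (h : n ≤ n'), IsIso ((sq D).map (homOfLE h)) := by
        rintro n' rfl h
        have e : homOfLE h = 𝟙 _ := Subsingleton.elim _ _
        rw [e, CategoryTheory.Functor.map_id]
        infer_instance
      exact key _ (max_eq_left hn) _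
    change IsIso ((sq D).map (homOfLE (le_max_left n m)) ≫ inv ((sq D).map (homOfLE (le_max_right n m))))
    infer_instance

theorem exists_underlying {E N : Z.Modules} (g : N ⟶ E) [Mono g] (P : Subobject E) (h : P = Subobject.mk g) :
    ∃ e : Subobject.underlying.obj P ≅ N, e.hom ≫ g = P.arrow := by
  subst h
  exact ⟨Subobject.underlyingIso g, Subobject.underlyingIso_hom_comp_eq_mk g⟩

/-- The filtration. -/
theorem exists_filt (hm : ∀ n, Mono (D.ι n)) (h0 : IsZero (D.N 0)) {m : ℕ} (hi : ∀ n, m ≤ n → IsIso (D.ι n)) :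
    ∃ (E : Z.Modules) (F : ℤ →o Subobject E), (∀ i, i ≤ 0 → F i = ⊥) ∧ (∀ i : ℤ, (m : ℤ) ≤ i → F i = ⊤) ∧
      (∃ e : ∀ n, (seq F 0).N n ≅ D.N n, ∀ n, (seq F 0).ι n ≫ (e (n + 1)).hom = (e n).hom ≫ D.ι n) ∧
      (∀ i, ∃ n, Nonempty (Subobject.underlying.obj (F i) ≅ D.N n)) ∧
      ∀ i, ∃ n, Nonempty (gr F i ≅ cokernel (D.ι n)) := by
  obtain ⟨t, ht, htm, hti⟩ := exists_t D hm hi
  have hle : ∀ a k, Subobject.mk (t a) ≤ Subobject.mk (t (a + k)) := by
    intro a k
    induction k with
    | zero => exact le_rfl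
    | succ k ih => exact ih.trans (Subobject.mk_le_mk_of_comm (D.ι (a + k)) (ht (a + k)))
  let F : ℤ →o Subobject (D.N m) := ⟨fun i => Subobject.mk (t i.toNat), fun i j hij => by
    have h1 := Int.toNat_le_toNat hij
    obtain ⟨k, hk⟩ := Nat.exists_eq_add_of_le h1
    change Subobject.mk (t i.toNat) ≤ Subobject.mk (t j.toNat)
    rw [hk]
    exact hle _ _⟩
  have hF : ∀ i (n : ℕ), i.toNat = n → F i = Subobject.mk (t n) := by
    rintro i _ rfl; rfl
  have hbot : ∀ i, i ≤ 0 → F i = ⊥ := fun i hi => by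
    rw [hF i 0 (by omega), eq_bot_iff]
    exact Subobject.mk_le_of_comm 0 (h0.eq_of_src _ _)
  have htop : ∀ i : ℤ, (m : ℤ) ≤ i → F i = ⊤ := fun i hi => by
    have := hti i.toNat (by omega)
    rw [hF i i.toNat rfl]
    exact Subobject.mk_eq_top_of_isIso _
  refine ⟨D.N m, F, hbot, htop, ?_, fun i => ?_, fun i => ?_⟩
  · have h1 : ∀ n : ℕ, ∃ e : (seq F 0).N n ≅ D.N n, e.hom ≫ t n = arr F 0 n := fun n =>
      exists_underlying (t n) (F (0 + (n : ℤ))) (hF _ n (by omega))
    choose e he using h1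
    refine ⟨e, fun n => ?_⟩
    rw [← cancel_mono (t (n + 1)), Category.assoc, he, ι_arr, Category.assoc, ht, he]
  · obtain ⟨e, -⟩ := exists_underlying (t i.toNat) (F i) (hF i _ rfl)
    exact ⟨_, ⟨e⟩⟩
  · rcases le_or_gt i 0 with h | h
    · refine ⟨m, ⟨?_⟩⟩
      have z1 := isZero_gr F (hbot i h)
      have := hi m le_rfl
      have z2 : IsZero (cokernel (D.ι m)) := by
        rw [IsZero.iff_id_eq_zero, ← cancel_epi (cokernel.π _), cokernel.π_of_epi, zero_comp, zero_comp]
      exact z1.iso z2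
    · obtain ⟨n, rfl⟩ : ∃ n : ℕ, i = n + 1 := ⟨(i - 1).toNat, by omega⟩
      obtain ⟨e1, he1⟩ := exists_underlying (t n) (F ((n : ℤ) + 1 - 1)) (hF _ n (by omega))
      obtain ⟨e2, he2⟩ := exists_underlying (t (n + 1)) (F ((n : ℤ) + 1)) (hF _ (n + 1) (by omega))
      refine ⟨n, ⟨cokernel.mapIso _ _ e1 e2 ?_⟩⟩
      rw [← cancel_mono (t (n + 1)), Category.assoc, he2, Subobject.ofLE_arrow, Category.assoc, ht, he1]

section Transport

variable {D} {D' : Sys Z} (e : ∀ n, D'.N n ≅ D.N n) (he : ∀ n, D'.ι n ≫ (e (n + 1)).hom = (e n).hom ≫ D.ι n)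
  {r : Y ⟶ Z} {s : Γ(Y, ⊤)} {G G' : Y.Modules}

/-- Transport of families. -/
noncomputable def trans (ρ : Fam D r s G) : Fam D' r s G where
  ρ n := (e n).hom ≫ ρ.ρ n
  comm n := by
    rw [← Category.assoc, he, Category.assoc, ρ.comm, Category.assoc]

theorem trans_map (ρ : Fam D r s G) (v : G ⟶ G') : (trans e he ρ).map v = trans e he (ρ.map v) := by
  ext n : 2
  change ((e n).hom ≫ ρ.ρ n) ≫ (Scheme.Modules.pushforward r).map v =
    (e n).hom ≫ ρ.ρ n ≫ (Scheme.Modules.pushforward r).map v
  rw [Category.assoc]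

theorem trans_bijective (G : Y.Modules) : Function.Bijective (fun ρ : Fam D r s G => trans e he ρ) := by
  constructor
  · intro ρ ρ' h
    ext n : 2
    have h1 := congrArg (fun t => t.ρ n) h
    exact (cancel_epi (e n).hom).1 h1
  · intro σ
    refine ⟨⟨fun n => (e n).inv ≫ σ.ρ n, fun n => ?_⟩, ?_⟩
    · have h1 : D.ι n ≫ (e (n + 1)).inv = (e n).inv ≫ D'.ι n := by
        rw [Iso.comp_inv_eq, Category.assoc, he, Iso.inv_hom_id_assoc]
      rw [← Category.assoc, h1, Category.assoc, σ.comm, Category.assoc]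
    · ext n : 2
      change (e n).hom ≫ (e n).inv ≫ σ.ρ n = σ.ρ n
      rw [Iso.hom_inv_id_assoc]

theorem isRees_trans {ρ : Fam D r s G} (h : ρ.IsRees) : (trans e he ρ).IsRees := by
  intro G'
  have : (fun v : G ⟶ G' => (trans e he ρ).map v) = (fun σ : Fam D r s G' => trans e he σ) ∘ fun v : G ⟶ G' => ρ.map v := by
    funext v
    exact trans_map e he ρ v
  rw [this]
  exact (trans_bijective e he G').comp (h G')

end Transport

end K320.SeqFilt
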