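import Groth.Agent.ThetaS.K881.FwdMain
import Groth.Agent.ThetaS.K320.SeqFilt

/-!
# The criterion implies that the open substack is closed under limits over `Θ_R`
-/

set_option autoImplicit false
set_option backward.isDefEq.respectTransparency false
set_option backward.isDefEq.respectTransparency.types false
set_option linter.style.haveILetI false

universe u

open CategoryTheory CategoryTheory.Limits MonoidalCategory CartesianMonoidalCategory MonObj GrpObj AlgebraicGeometry Opposite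
open scoped Polynomial

namespace K320.Bwd

open K943 ThetaS K951.Pts K943.QuotAtlas K943.QuotCover K881.Rees K881.ReesObj K881.TransFun K881.ThetaTr K881.Filt
  K881.ThetaCrit K881.Topo K943.Points K943.FibBase K942.Coord K899.OpenCrit K881.Fwd K320.SeqFilt

attribute [local instance] K951.Pts.algΓ

variable {R : Type u} [CommRing R] {C S : Scheme.{u}} {f : C ⟶ S} {h : Spec (CommRingCat.of R) ⟶ S}

/-- Change of the sequence. -/
noncomputable def withSys (L : LData f h) {D' : Sys L.Z} (e : ∀ n, D'.N n ≅ L.D.N n)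
    (he : ∀ n, D'.ι n ≫ (e (n + 1)).hom = (e n).hom ≫ L.D.ι n) : LData f h where
  XT := L.XT
  p := L.p
  q := L.q
  pb := L.pb
  E := L.E
  Z := L.Z
  pZ := L.pZ
  qZ := L.qZ
  pbZ := L.pbZ
  π := L.π
  hp := L.hp
  hq := L.hq
  D := D'
  ρ := trans e he L.ρ
  univ := isRees_trans e he L.univ

/-- Arrows to an object with data from families over a base mapping to `Spec R`. -/
theorem exists_to (L : LData f h) {B CB : Scheme.{u}} {y : B ⟶ Spec (CommRingCat.of R)} {iB : CB ⟶ L.Z} {qB : CB ⟶ B}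
    (hB : IsPullback iB qB L.qZ y) {bs : B ⟶ S} (hbs : y ≫ h = bs) {pB : CB ⟶ C} (hpB : iB ≫ L.pZ = pB)
    (hB' : IsPullback pB qB f (Over.mk bs).hom)
    (t : B ⟶ (Line R).left) (ht : t ≫ (Line R).hom = y) {s : Γ(L.Z, ⊤)} {M : L.Z.Modules} {ρ : Fam L.D (𝟙 L.Z) s M}
    (hρ : ρ.IsRees) {MB : CB.Modules} (c : M ⟶ (Scheme.Modules.pushforward iB).obj MB) (hc : ModSt.IsCart iB c)
    (hs : iB.appTop s = qB.appTop (t.appTop (lineFn Polynomial.X))) :
    ∃ m : (⟨Over.mk bs, CB, pB, qB, hB', MB⟩ : ModSt.Obj f) ⟶ L.obj,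
      m.base.left = t := by
  have ht' : t ≫ ((Over.map h).obj (Line R)).hom = (Over.mk bs).hom := by
    change t ≫ (Line R).hom ≫ h = bs
    rw [← Category.assoc, ht, hbs]
  have h1 := (hρ.push_iff c).2 hc
  obtain ⟨m, hm, -⟩ := exists_hom L.toUniv
    (e := (⟨Over.mk bs, CB, pB, qB, hB', MB⟩ : ModSt.Obj f)) (Over.homMk t ht') iB hpB
    (by
      change iB ≫ L.qZ = qB ≫ t ≫ (Line R).hom
      rw [ht, hB.w])
    ((ρ.push c).cast (Category.comp_id iB) hs) (h1.cast _ _)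
  exact ⟨m, by rw [hm]; rfl⟩

section Points

theorem preimage_one {U : (Line R).left.Opens} (h1 : (Line R).left.basicOpen (lineFn Polynomial.X) ≤ U) :
    (one (R := R)).left ⁻¹ᵁ U = ⊤ := by
  rw [eq_top_iff]
  refine le_trans ?_ (Scheme.Hom.preimage_mono _ h1)
  rw [Scheme.preimage_basicOpen_top, K881.FwdMain.one_X, Scheme.basicOpen_one]

theorem preimage_pt {ϖ : R} {K : Type u} [Field K] [Algebra R K] [FaithfulSMul R K] (h0 : ϖ ≠ 0) {U : (Line R).left.Opens}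
    (h1 : (Line R).left.basicOpen (lineFn (Polynomial.C ϖ)) ≤ U) :
    (Spec.map (CommRingCat.ofHom (algebraMap R K)) ≫ pt0 R) ⁻¹ᵁ U = ⊤ := by
  rw [eq_top_iff]
  intro w _
  apply h1
  rw [mem_basicOpen_iff]
  have hw : w = (⊥ : PrimeSpectrum K) := Subsingleton.elim _ _
  subst hw
  have h2 : (show PrimeSpectrum R[X] from (Spec.map (CommRingCat.ofHom (algebraMap R K)) ≫ pt0 R) (⊥ : PrimeSpectrum K)).asIdeal =
      RingHom.ker ((algebraMap R K).comp (Polynomial.evalRingHom (0 : R))) := rfl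
  rw [h2, RingHom.mem_ker, RingHom.comp_apply, Polynomial.coe_evalRingHom, Polynomial.eval_C]
  intro h3
  exact h0 ((map_eq_zero_iff _ (FaithfulSMul.algebraMap_injective R K)).1 h3)

end Points

/-- The criterion for a given discrete valuation ring over the base. -/
def Crit (Q : (ModSt.Coh f).obj → Prop) (h : Spec (CommRingCat.of R) ⟶ S) [IsLocalRing R] : Prop :=
  ∀ (K : Type u) [Field K] [Algebra R K] [IsFractionRing R K]
    (CR : Scheme.{u}) (p : CR ⟶ C) (q : CR ⟶ Spec (CommRingCat.of R)) (hpb : IsPullback p q f h)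
    (E : CR.Modules) (hE : ModSt.IsCohObj (⟨Over.mk h, CR, p, q, hpb, E⟩ : ModSt.Obj f))
    (F : ℤ →o Subobject E) (_ : ∀ i, Coh.IsQCoh (Subobject.underlying.obj (F i)))
    (a b : ℤ) (_ : ∀ i, i ≤ a → F i = ⊥) (_ : ∀ i, b ≤ i → F i = ⊤)
    (_ : ∀ i, FlatMod.IsFlatOver q (gr F i))
    (CK : Scheme.{u}) (iK : CK ⟶ CR) (qK : CK ⟶ Spec (CommRingCat.of K))
    (hK : IsPullback iK qK q (Spec.map (CommRingCat.ofHom (algebraMap R K))))
    (Cκ : Scheme.{u}) (iκ : Cκ ⟶ CR) (qκ : Cκ ⟶ Spec (CommRingCat.of (IsLocalRing.ResidueField R)))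
    (hκ : IsPullback iκ qκ q (Spec.map (CommRingCat.ofHom (IsLocalRing.residue R)))),
    Q ⟨⟨Over.mk h, CR, p, q, hpb, E⟩, hE⟩ →
    (∀ hK' : ModSt.IsCohObj (⟨Over.mk (Spec.map (CommRingCat.ofHom (algebraMap R K)) ≫ h),
      CK, iK ≫ p, qK, (hK.flip.paste_vert hpb.flip).flip,
      (Scheme.Modules.pullback iK).obj (∐ fun i : ℤ => gr F i)⟩ : ModSt.Obj f), Q ⟨_, hK'⟩) →
    ∀ hκ' : ModSt.IsCohObj (⟨Over.mk (Spec.map (CommRingCat.ofHom (IsLocalRing.residue R)) ≫ h),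
      Cκ, iκ ≫ p, qκ, (hκ.flip.paste_vert hpb.flip).flip,
      (Scheme.Modules.pullback iκ).obj (∐ fun i : ℤ => gr F i)⟩ : ModSt.Obj f), Q ⟨_, hκ'⟩

/-- What the analysis of equivariant modules gives: the value at the atlas carries Rees data. -/
def HasData (Φ : Theta Kf.{u} R h ⥤ᵇ ModSt.Coh f) : Prop :=
  ∃ (L : LData f h) (hL : ModSt.IsCohObj L.obj) (m0 : Φ.obj (U0 R) ⟶ (⟨L.obj, hL⟩ : (ModSt.Coh f).obj)),
    (ModSt.Coh f).p.IsHomLift (𝟙 ((Over.map h).obj (Line R))) m0 ∧ (∀ n, Mono (L.D.ι n)) ∧ IsZero (L.D.N 0) ∧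
    (∀ n, Coh.IsQCoh (L.D.N n)) ∧ (∀ n, FlatMod.IsFlatOver L.qZ (cokernel (L.D.ι n))) ∧
    ∃ m, ∀ n, m ≤ n → IsIso (L.D.ι n)

theorem backward [IsDomain R] [IsDiscreteValuationRing R] {Q : (ModSt.Coh f).obj → Prop} (hQ : HasOpenLocus Q)
    {ϖ : R} (hϖ : Irreducible ϖ) (hC : Crit Q h) (Φ : Theta Kf.{u} R h ⥤ᵇ ModSt.Coh f) (hΦ : HasData Φ)
    (H : ∀ a, Q (Φ.obj ((thetaIncl Kf.{u} R ϖ h).obj a))) (b : (Theta Kf.{u} R h).obj) : Q (Φ.obj b) := by
  obtain ⟨L, hL, m0, hm0, hm, h0, hq, hf, m, hi⟩ := hΦ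
  haveI : FibCat.IsFibGrpd (ModSt.Coh f).p := K927.ModSt.isFibGrpd_coh f
  obtain ⟨U, hU1, hU2, hU3⟩ := exists_locus_theta h hQ Φ
  haveI : IsIso m0 := isIso_of_lift_id (ModSt.Coh f).p (T := (Over.map h).obj (Line R)) m0
  have hU2' : ∀ (y : (ModSt.Coh f).obj) (m : y.obj ⟶ L.obj), Q y ↔ m.base.left ⁻¹ᵁ U = ⊤ := by
    intro y m
    have h1 := hU2 y (ObjectProperty.homMk m ≫ inv m0)
    rw [h1]
    have h2 : (ModSt.Coh f).p.map (ObjectProperty.homMk m ≫ inv m0 : y ⟶ Φ.obj (U0 R)) ≫ eqToHom (Φ.w_obj (U0 R)) =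
        m.base := by
      have h3 : (ModSt.Coh f).p.map m0 = eqToHom (Φ.w_obj (U0 R)) := by
        have := IsHomLift.fac' (ModSt.Coh f).p (𝟙 ((Over.map h).obj (Line R))) m0
        rw [this, Category.id_comp, eqToHom_trans]
      rw [Functor.map_comp, Functor.map_inv, Category.assoc]
      have h4 : inv ((ModSt.Coh f).p.map m0) ≫ eqToHom (Φ.w_obj (U0 R)) = 𝟙 _ := by
        rw [IsIso.inv_comp_eq, h3]; exact (Category.comp_id _).symm
      rw [h4]
      exact Category.comp_id _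
    have key : ∀ (g g' : y.obj.base ⟶ (Over.map h).obj (Line R)), g = g' → (g.left ⁻¹ᵁ U = ⊤ ↔ g'.left ⁻¹ᵁ U = ⊤) := by
      rintro g _ rfl; rfl
    exact key _ _ h2
  obtain ⟨h2, h3⟩ := forall_iff h Φ ϖ hU1
  refine h3.2 (eq_top hϖ (h2.1 H) ?_) b
  have hUl := h2.1 H
  obtain ⟨E, F, hbot, htop, ⟨e, he⟩, hu, hg⟩ := exists_filt L.D hm h0 hi
  let L' := withSys L e he
  have hqc : ∀ i, Coh.IsQCoh (Subobject.underlying.obj (F i)) := fun i => by
    obtain ⟨n, ⟨e1⟩⟩ := hu i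
    exact (SheafOfModules.isQuasicoherent L.Z.ringCatSheaf).prop_of_iso e1.symm (hq n)
  have hfl : ∀ i, FlatMod.IsFlatOver L.qZ (gr F i) := fun i => by
    obtain ⟨n, ⟨e1⟩⟩ := hg i
    exact Groth.Agent.Models2.FlatIso.isFlatOver_of_iso _ e1.symm (hf n)
  have hb0 : F (0 + (m : ℤ)) = ⊤ := htop _ (by omega)
  -- over `R`
  obtain ⟨m1, hm1⟩ := exists_to L' (IsPullback.of_horiz_isIso ⟨by simp⟩ :
      IsPullback (𝟙 L.Z) L.qZ L.qZ (𝟙 (Spec (CommRingCat.of R)))) (Category.id_comp h) (Category.id_comp L.pZ) L.pbZ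
      (one (R := R)).left (Over.w (one (R := R))) (isRees_one F 0 hb0)
      ((Scheme.Modules.pushforwardId L.Z).inv.app E) (ModSt.isCart_id E)
      (by rw [map_one]; exact ((congrArg _ K881.FwdMain.one_X).trans (map_one L.qZ.appTop.hom)).symm)
  have hE : ModSt.IsCohObj (⟨Over.mk h, L.Z, L.pZ, L.qZ, L.pbZ, E⟩ : ModSt.Obj f) := K927.ModSt.isCohObj_of_hom m1 hL
  have hQE : Q ⟨_, hE⟩ := by
    refine (hU2' ⟨_, hE⟩ m1).2 ?_
    rw [hm1]
    exact preimage_one (le_sup_left.trans hUl)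
  -- over `K`
  let K := FractionRing R
  let sK : Spec (CommRingCat.of K) ⟶ Spec (CommRingCat.of R) := Spec.map (CommRingCat.ofHom (algebraMap R K))
  let sκ : Spec (CommRingCat.of (IsLocalRing.ResidueField R)) ⟶ Spec (CommRingCat.of R) :=
    Spec.map (CommRingCat.ofHom (IsLocalRing.residue R))
  have hK := IsPullback.of_hasPullback L.qZ sK
  have hκ := IsPullback.of_hasPullback L.qZ sκ
  have hQK : ∀ hK' : ModSt.IsCohObj (⟨Over.mk (Spec.map (CommRingCat.ofHom (algebraMap R K)) ≫ h),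
      pullback L.qZ sK, pullback.fst L.qZ sK ≫ L.pZ, pullback.snd L.qZ sK, (hK.flip.paste_vert L.pbZ.flip).flip,
      (Scheme.Modules.pullback (pullback.fst L.qZ sK)).obj (∐ fun i : ℤ => gr F i)⟩ : ModSt.Obj f), Q ⟨_, hK'⟩ := by
    intro hK'
    obtain ⟨m2, hm2⟩ := exists_to L' hK rfl rfl (hK.flip.paste_vert L.pbZ.flip).flip
      (sK ≫ pt0 R)
      (by rw [Category.assoc, pt0_hom, Category.comp_id]) (isRees_zero F 0 hbot)
      ((Scheme.Modules.pullbackPushforwardAdjunction (pullback.fst L.qZ sK)).unit.app _) (K927.ModSt.isCart_unit _ _)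
      (by rw [Scheme.Hom.comp_appTop, CommRingCat.comp_apply, pt0_X, map_zero, map_zero, map_zero])
    refine (hU2' ⟨_, hK'⟩ m2).2 ?_
    rw [hm2]
    exact preimage_pt hϖ.ne_zero (le_sup_right.trans hUl)
  obtain ⟨m3, hm3⟩ := exists_to L' hκ rfl rfl (hκ.flip.paste_vert L.pbZ.flip).flip
      (sκ ≫ pt0 R)
      (by rw [Category.assoc, pt0_hom, Category.comp_id]) (isRees_zero F 0 hbot)
      ((Scheme.Modules.pullbackPushforwardAdjunction (pullback.fst L.qZ sκ)).unit.app _) (K927.ModSt.isCart_unit _ _)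
      (by rw [Scheme.Hom.comp_appTop, CommRingCat.comp_apply, pt0_X, map_zero, map_zero, map_zero])
  have hκ' := K927.ModSt.isCohObj_of_hom m3 hL
  have h5 := (hU2' ⟨_, hκ'⟩ m3).1 (hC K L.Z L.pZ L.qZ L.pbZ E hE F hqc 0 m hbot htop hfl _ _ _ hK _ _ _ hκ hQE hQK hκ')
  rw [hm3] at h5
  exact h5

end K320.Bwd
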