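import Groth.Agent.ThetaS.K320.Bwd
import Groth.Agent.ThetaS.K943.CohRows
import Groth.Agent.AlgSt.K737.OpenSt

/-!
# Θ-completeness of open substacks of coherent sheaves: assembly
-/

set_option autoImplicit false
set_option backward.isDefEq.respectTransparency false
set_option backward.isDefEq.respectTransparency.types false
set_option linter.style.haveILetI false

universe u

open CategoryTheory CategoryTheory.Limits AlgebraicGeometry Opposite

namespace K320.Row37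

open K881.ThetaCrit K881.Filt K320.Bwd

theorem hasOpenLocus {C S : Scheme.{u}} {f : C ⟶ S} {Q : (ModSt.Coh f).obj → Prop}
    (hQ : AlgSt.IsOpenSubstack (ModSt.Coh f) Q Scheme.fppfPrecoverage) : K899.OpenCrit.HasOpenLocus Q :=
  K737.OpenSt.hasOpenLocus_of_hasLoci (K927.ModSt.isFibGrpd_coh f) hQ.1
    ((K737.Pts.hasLoci_iff _ K737.Open.openImm_le_mono hQ.1).1 hQ.2.2)

theorem main {k : Type u} [Field k] {C : Scheme.{u}} (f : C ⟶ Spec (CommRingCat.of k))
    (hst : Stk.IsStack (QuotSh.J Scheme.fppfPrecoverage (Spec (CommRingCat.of k))) (ModSt.Coh f))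
    [LocallyOfFiniteType f] (hcoh : ThetaS.IsThetaComplete Scheme.fppfPrecoverage (ModSt.Coh f))
    (Q : (ModSt.Coh f).obj → Prop) (hQ : AlgSt.IsOpenSubstack (ModSt.Coh f) Q Scheme.fppfPrecoverage)
    (hD : ∀ (R : Type u) [CommRing R] [IsDomain R] [IsDiscreteValuationRing R]
      (h : Spec (CommRingCat.of R) ⟶ Spec (CommRingCat.of k)) (Φ : ThetaS.Theta Kf.{u} R h ⥤ᵇ ModSt.Coh f), HasData Φ) :
    ThetaS.IsThetaComplete Scheme.fppfPrecoverage (AlgSt.fullSub (ModSt.Coh f) Q) ↔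
    ∀ (R : Type u) [CommRing R] [IsDomain R] [IsDiscreteValuationRing R] [Algebra k R]
      (K : Type u) [Field K] [Algebra R K] [IsFractionRing R K]
      (CR : Scheme.{u}) (p : CR ⟶ C) (q : CR ⟶ Spec (CommRingCat.of R))
      (hpb : IsPullback p q f (Spec.map (CommRingCat.ofHom (algebraMap k R))))
      (E : CR.Modules)
      (hE : ModSt.IsCohObj (⟨Over.mk (Spec.map (CommRingCat.ofHom (algebraMap k R))), CR, p, q, hpb, E⟩ : ModSt.Obj f))
      (F : ℤ →o Subobject E) (_ : ∀ i, Coh.IsQCoh (Subobject.underlying.obj (F i)))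
      (a b : ℤ), (∀ i, i ≤ a → F i = ⊥) → (∀ i, b ≤ i → F i = ⊤) →
      (∀ i, FlatMod.IsFlatOver q (cokernel (Subobject.ofLE (F (i - 1)) (F i) (F.monotone (sub_one_lt i).le)))) →
      ∀ (CK : Scheme.{u}) (iK : CK ⟶ CR) (qK : CK ⟶ Spec (CommRingCat.of K))
        (hK : IsPullback iK qK q (Spec.map (CommRingCat.ofHom (algebraMap R K))))
        (Cκ : Scheme.{u}) (iκ : Cκ ⟶ CR) (qκ : Cκ ⟶ Spec (CommRingCat.of (IsLocalRing.ResidueField R)))
        (hκ : IsPullback iκ qκ q (Spec.map (CommRingCat.ofHom (IsLocalRing.residue R)))),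
        Q ⟨⟨Over.mk (Spec.map (CommRingCat.ofHom (algebraMap k R))), CR, p, q, hpb, E⟩, hE⟩ →
        (∀ hK' : ModSt.IsCohObj (⟨Over.mk (Spec.map (CommRingCat.ofHom (algebraMap R K)) ≫ Spec.map (CommRingCat.ofHom (algebraMap k R))),
            CK, iK ≫ p, qK, (hK.flip.paste_vert hpb.flip).flip,
            (Scheme.Modules.pullback iK).obj (∐ fun i : ℤ => cokernel (Subobject.ofLE (F (i - 1)) (F i) (F.monotone (sub_one_lt i).le)))⟩ : ModSt.Obj f),
          Q ⟨_, hK'⟩) →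
        ∀ hκ' : ModSt.IsCohObj (⟨Over.mk (Spec.map (CommRingCat.ofHom (IsLocalRing.residue R)) ≫ Spec.map (CommRingCat.ofHom (algebraMap k R))),
            Cκ, iκ ≫ p, qκ, (hκ.flip.paste_vert hpb.flip).flip,
            (Scheme.Modules.pullback iκ).obj (∐ fun i : ℤ => cokernel (Subobject.ofLE (F (i - 1)) (F i) (F.monotone (sub_one_lt i).le)))⟩ : ModSt.Obj f),
          Q ⟨_, hκ'⟩ := by
  have hloc := hasOpenLocus hQ
  have hiff : ∀ (R : Type u) [CommRing R] [IsDomain R] [IsDiscreteValuationRing R] (ϖ : R) (_ : Irreducible ϖ)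
      (h : Spec (CommRingCat.of R) ⟶ Spec (CommRingCat.of k)), _ := fun R _ _ _ ϖ hϖ h =>
    K881.SubLift.liftsUniquely_fullSub_iff (Q := Q) (fun φ hx => hloc.of_hom φ hx) (hcoh R ϖ hϖ h)
  constructor
  · intro H R _ _ _ _ K _ _ _ CR p q hpb E hE F hFq a b ha hb hfl CK iK qK hK Cκ iκ qκ hκ hQE hQK hκ'
    obtain ⟨ϖ, hϖ⟩ := IsDiscreteValuationRing.exists_irreducible R
    exact K881.FwdMain.forward hst hloc R _ hϖ ((hiff R ϖ hϖ _).1 (H R ϖ hϖ _)) K CR p q hpb E hE F hFq a b ha hb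
      hfl CK iK qK hK Cκ iκ qκ hκ hQE hQK hκ'
  · intro H R _ _ _ ϖ hϖ h
    refine (hiff R ϖ hϖ h).2 fun Φ hΦ b => ?_
    have hC : Crit Q h := by
      obtain ⟨φ, rfl⟩ := Spec.map_surjective h
      letI : Algebra k R := φ.hom.toAlgebra
      intro K _ _ _ CR p q hpb E hE F hFq a b ha hb hfl CK iK qK hK Cκ iκ qκ hκ hQE hQK hκ'
      exact H R K CR p q hpb E hE F hFq a b ha hb hfl CK iK qK hK Cκ iκ qκ hκ hQE hQK hκ'
    exact backward hloc hϖ hC Φ (hD R h Φ) hΦ b

end K320.Row37
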